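import Cfsg.Agent.Lib.Helper12.PGV.Defs
import Cfsg.Agent.Lib.Helper12.PGV.T5
import Cfsg.Agent.Lib.Helper28.Components
import Cfsg.Agent.Lib.Helper65.IA.BS
import Cfsg.Agent.Lib.Helper65.IA.Lift

set_option autoImplicit false
set_option linter.unusedSectionVars false
set_option linter.style.haveILetI false

namespace Cfsg.Agent.Lib.Helper12.PGV

open Cfsg.Agent.Lib.Helper65.IA

theorem bs_pCore_bot (S : Type) [Group S] [Finite S] [IsSimpleGroup S] [Group.IsPerfect S] :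
    Cfsg.pCore 2 S = ⊥ := by
  unfold Cfsg.pCore
  rw [sSup_eq_bot]
  rintro N ⟨hN, hp⟩
  rcases hN.eq_bot_or_eq_top with h | h
  · exact h
  · exfalso
    subst h
    have hS : IsPGroup 2 S := hp.of_equiv Subgroup.topEquiv
    haveI : Fact (Nat.Prime 2) := ⟨Nat.prime_two⟩
    have := hS.isNilpotent
    exact Group.IsPerfect.not_isNilpotent S this

theorem bs_abs0 (A : Type) [Group A] [Finite A] (hA : Cfsg.IsQuasisimple A) (α : MulAut A)
    (hsq : ∀ g, α (α g) = g) :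
    (∀ a : A, a * (α a)⁻¹ ∈ Subgroup.center A) ∨
      ∃ c : A, Odd (orderOf c) ∧ c ∉ Subgroup.center A ∧ α c = c⁻¹ := by
  by_contra hcon
  push Not at hcon
  obtain ⟨⟨a, ha⟩, hc⟩ := hcon
  have hN : Inv α (Subgroup.center A) := Subgroup.characteristic_iff_map_eq.1 inferInstance α
  haveI := hA.1
  haveI := hA.2
  have hsq' : ∀ g, qa α _ hN (qa α _ hN g) = g := by
    intro g
    obtain ⟨g, rfl⟩ := QuotientGroup.mk_surjective g
    rw [qa_mk, qa_mk, hsq]
  have hX : ∀ x ∈ XS (qa α _ hN), x = 1 := by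
    intro y hy
    obtain ⟨x, hx, rfl⟩ := lift_XS hsq _ hN y hy
    rw [QuotientGroup.eq_one_iff]
    by_contra hxc
    exact hc x hx.1 hxc hx.2
  have h1 := kappa_mem_pCore _ (A ⧸ Subgroup.center A) (qa α _ hN) le_rfl hsq' hX (a : A ⧸ _)
  rw [bs_pCore_bot, Subgroup.mem_bot, qa_mk] at h1
  apply ha
  rw [← QuotientGroup.eq_one_iff]
  simpa using h1

theorem bs_abs {A : Type*} [Group A] [Finite A] (hA : Cfsg.IsQuasisimple A) (α : MulAut A)
    (hsq : ∀ g, α (α g) = g) :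
    (∀ a : A, a * (α a)⁻¹ ∈ Subgroup.center A) ∨
      ∃ c : A, Odd (orderOf c) ∧ c ∉ Subgroup.center A ∧ α c = c⁻¹ := by
  let E : Shrink.{0} A ≃* A := Shrink.mulEquiv
  haveI : Finite (Shrink.{0} A) := Finite.of_equiv _ E.symm.toEquiv
  let α0 : MulAut (Shrink.{0} A) := (E.trans α).trans E.symm
  have hα0 : ∀ x, E (α0 x) = α (E x) := by
    intro x
    show E (E.symm (α (E x))) = α (E x)
    rw [MulEquiv.apply_symm_apply]
  have hsq0 : ∀ g, α0 (α0 g) = g := by
    intro g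
    apply E.injective
    rw [hα0, hα0, hsq]
  have hcen : ∀ x : Shrink.{0} A, x ∈ Subgroup.center (Shrink.{0} A) ↔ E x ∈ Subgroup.center A := by
    intro x
    rw [Subgroup.mem_center_iff, Subgroup.mem_center_iff]
    constructor
    · intro h g
      obtain ⟨g, rfl⟩ := E.surjective g
      rw [← map_mul, ← map_mul, h g]
    · intro h g
      apply E.injective
      rw [map_mul, map_mul, h (E g)]
  rcases bs_abs0 (Shrink.{0} A) (Cfsg.Agent.Lib.Helper28.isQuasisimple_of_equiv E.symm hA) α0 hsq0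
    with h | ⟨c, h1, h2, h3⟩
  · left
    intro a
    obtain ⟨a, rfl⟩ := E.surjective a
    have := (hcen _).1 (h a)
    rwa [map_mul, map_inv, hα0] at this
  · right
    refine ⟨E c, ?_, ?_, ?_⟩
    · rwa [MulEquiv.orderOf_eq]
    · rwa [← hcen]
    · rw [← hα0, h3, map_inv]

variable {G V : Type*} [Group G] [Finite G] [AddCommGroup V] [Finite V] {p : ℕ} [Fact p.Prime]
  [Module (ZMod p) V] {ρ : Representation (ZMod p) G V} {A K : Subgroup G}

/-- conjugation by an involution normalising `K` -/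
def bsAut (K : Subgroup G) (b : G) (hb2 : b * b = 1) (hbK : ∀ k ∈ K, b * k * b⁻¹ ∈ K) :
    MulAut K where
  toFun k := ⟨b * k * b⁻¹, hbK k k.2⟩
  invFun k := ⟨b * k * b⁻¹, hbK k k.2⟩
  left_inv k := Subtype.ext (by
    show b * (b * (k : G) * b⁻¹) * b⁻¹ = k
    calc b * (b * (k : G) * b⁻¹) * b⁻¹ = (b * b) * k * (b * b)⁻¹ := by group
      _ = k := by rw [hb2]; simp)
  right_inv k := Subtype.ext (by
    show b * (b * (k : G) * b⁻¹) * b⁻¹ = k
    calc b * (b * (k : G) * b⁻¹) * b⁻¹ = (b * b) * k * (b * b)⁻¹ := by group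
      _ = k := by rw [hb2]; simp)
  map_mul' x y := Subtype.ext (by
    show b * ((x : G) * y) * b⁻¹ = (b * x * b⁻¹) * (b * y * b⁻¹)
    group)

/-- [BS] Baer–Suzuki. -/
theorem bs (hK : Cfsg.IsQuasisimple K) {b : G} (hb2 : b * b = 1) (hb : cj K b = K)
    (hnc : ∃ k ∈ K, b * k * b⁻¹ ≠ k) :
    ∃ c ∈ K, Odd (orderOf c) ∧ ¬ Cen K c ∧ b * c * b⁻¹ = c⁻¹ := by
  have hbK : ∀ k ∈ K, b * k * b⁻¹ ∈ K := by
    intro k hk
    have : b * k * b⁻¹ ∈ cj K b := Subgroup.mem_map.2 ⟨k, hk, rfl⟩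
    rwa [hb] at this
  have hsq : ∀ g, bsAut K b hb2 hbK (bsAut K b hb2 hbK g) = g :=
    fun g => (bsAut K b hb2 hbK).left_inv g
  rcases bs_abs hK (bsAut K b hb2 hbK) hsq with hall | ⟨c, h1, h2, h3⟩
  · exfalso
    obtain ⟨k, hk, hne⟩ := hnc
    apply hne
    have hcent := t5_central hK hbK (by
      intro k hk h hh
      have h1 := hall ⟨k⁻¹, K.inv_mem hk⟩
      have h2 := (Subgroup.mem_center_iff.1 h1) ⟨h, hh⟩
      have h3 := congrArg Subtype.val h2
      have e : ((⟨k⁻¹, K.inv_mem hk⟩ * (bsAut K b hb2 hbK ⟨k⁻¹, K.inv_mem hk⟩)⁻¹ : K) : G)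
          = k⁻¹ * (b * k * b⁻¹) := by
        show k⁻¹ * (b * k⁻¹ * b⁻¹)⁻¹ = k⁻¹ * (b * k * b⁻¹)
        group
      simp only [Subgroup.coe_mul] at h3
      rw [Subgroup.coe_mul] at e
      rw [e] at h3
      exact h3.symm) k hk
    rw [hcent, mul_inv_cancel_right]
  · refine ⟨c, c.2, ?_, ?_, ?_⟩
    · rwa [Subgroup.orderOf_coe]
    · intro hcen
      apply h2
      rw [Subgroup.mem_center_iff]
      intro g
      exact Subtype.ext (hcen g g.2).symm
    · have := congrArg Subtype.val h3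
      exact this

end Cfsg.Agent.Lib.Helper12.PGV
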