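import Cfsg.Agent.Lib.Helper12.PGV.Defs
import Cfsg.Agent.Lib.Helper12.PGV.BS
import Cfsg.Agent.Lib.Helper12.PGV.HALF
import Cfsg.Agent.Lib.Helper12.PGV.PEQ
import Cfsg.Agent.Lib.Helper12.PGV.INJ
import Cfsg.Agent.Lib.Helper12.PGV.SYL
import Cfsg.Agent.Lib.Helper12.PGV.C5

set_option autoImplicit false
set_option linter.unusedSectionVars false

namespace Cfsg.Agent.Lib.Helper12.PGV

variable {G V : Type*} [Group G] [Finite G] [AddCommGroup V] [Finite V] {p : ℕ} [Fact p.Prime]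
  [Module (ZMod p) V] {ρ : Representation (ZMod p) G V} {A K : Subgroup G}

theorem num_card_top : Nat.card ↥(⊤ : Submodule (ZMod p) V) = Nat.card V :=
  Nat.card_congr (Submodule.topEquiv (R := ZMod p) (M := V)).toEquiv

/-- the inverted element for a nontrivially acting `b`. -/
theorem num_bs (hK : Cfsg.IsQuasisimple K) {b : G} (hb2 : b * b = 1) (hb : cj K b = K)
    (hnc : ¬ RC ρ K b) : ∃ c ∈ K, Odd (orderOf c) ∧ ¬ Cen K c ∧ b * c * b⁻¹ = c⁻¹ := by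
  apply bs hK hb2 hb
  by_contra hcon
  push Not at hcon
  apply hnc
  intro k hk
  have h1 := hcon k hk
  have h2 : b * k = k * b := by
    calc b * k = (b * k * b⁻¹) * b := by group
      _ = k * b := by rw [h1]
  rw [← map_mul, ← map_mul, h2]

/-- step 1 common to NUM and ODDNUM. -/
theorem num_step1 (hp : p = 2) (hK : Cfsg.IsQuasisimple K) (A' : Subgroup G)
    (hexp : ∀ b ∈ A', b * b = 1) (hq : ∀ b ∈ A', ∀ b' ∈ A', QQ ρ b b')
    (hnK : ∀ b ∈ A', cj K b = K) (hnc : ∀ b ∈ A', ρ b ≠ 1 → ¬ RC ρ K b)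
    (hfpf : ∀ x ∈ K, Odd (orderOf x) → ¬ Cen K x → Fx ρ {x} = ⊥) {b : G} (hb : b ∈ A')
    (hb1 : ρ b ≠ 1) :
    Fx ρ {b} = Fx ρ (A' : Set G) ∧ Nat.card (Fx ρ (A' : Set G)) ^ 2 = Nat.card V := by
  obtain ⟨c, hc, hodd, hcn, hinv⟩ := num_bs hK (hexp b hb) (hnK b hb) (hnc b hb hb1)
  have h1 := half (ρ := ρ) hp (hexp b hb) hinv hodd ⊤ (fun _ _ => trivial) (fun _ _ => trivial)
    (by rw [hfpf c hc hodd hcn, bot_inf_eq])
  rw [inf_top_eq, num_card_top] at h1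
  have h2 := peq A' hq hb h1
  exact ⟨h2, by rw [← h2]; exact h1⟩

/-- [NUM] the numerical lemma (assembly of BS HALF PEQ INJ SYL C5). -/
theorem num (hp : p = 2) (hK : Cfsg.IsQuasisimple K) (K1 : Subgroup G)
    (hK1 : Cfsg.IsQuasisimple K1) (nt1 : ∃ k ∈ K1, ρ k ≠ 1) (hdvd : p ∣ Nat.card K1)
    (hcc : CC K K1) (A' : Subgroup G) (hexp : ∀ b ∈ A', b * b = 1)
    (hq : ∀ b ∈ A', ∀ b' ∈ A', QQ ρ b b') (hnK : ∀ b ∈ A', cj K b = K)
    (hnK1 : ∀ b ∈ A', cj K1 b = K1) (hnc : ∀ b ∈ A', ρ b ≠ 1 → ¬ RC ρ K b)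
    (hfpf : ∀ x ∈ K, Odd (orderOf x) → ¬ Cen K x → Fx ρ {x} = ⊥) (hne : ∃ b ∈ A', ρ b ≠ 1) :
    ∃ U : Submodule (ZMod p) V, U ≠ ⊤ ∧ (∀ k ∈ K, ∀ u ∈ U, ρ k u ∈ U) ∧
      Nat.card (Fx ρ (A' : Set G)) ^ 2 = Nat.card V ∧
      Nat.card A' ^ 2 ≤ Nat.card (Az ρ A') ^ 2 * Nat.card U := by
  have hA'p : IsPGroup p A' := by
    rintro ⟨x, hx⟩
    refine ⟨1, ?_⟩
    apply Subtype.ext
    show x ^ (p ^ 1) = 1
    rw [pow_one, hp, pow_two, hexp x hx]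
  obtain ⟨T, hTK, hTp, hTn, t, ht, ht1⟩ := syl hK1 nt1 hdvd A' hA'p hnK1
  set U : Submodule (ZMod p) V := Fx ρ (T : Set G) with hU
  have hUtop : U ≠ ⊤ := by
    intro h
    apply ht1
    ext v
    have : v ∈ U := by rw [h]; trivial
    exact this t ht
  have hUbot : U ≠ ⊥ := by
    have htb : (⊤ : Submodule (ZMod p) V) ≠ ⊥ := by
      intro h
      apply hUtop
      rw [h]
      exact le_antisymm (by rw [← h]; exact le_top) bot_le
    have := c5 (ρ := ρ) T hTp ⊤ htb (fun _ _ _ _ => trivial)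
    rwa [inf_top_eq] at this
  have hUK : ∀ k ∈ K, ∀ u ∈ U, ρ k u ∈ U := by
    intro k hk u hu s hs
    have h1 := hcc k hk s (hTK hs)
    rw [← Module.End.mul_apply, ← map_mul, ← h1, map_mul, Module.End.mul_apply, hu s hs]
  have hUA : ∀ b ∈ A', ∀ u ∈ U, ρ b u ∈ U := by
    intro b hb u hu s hs
    have h1 : s ∈ cj T b := by rw [hTn b hb]; exact hs
    obtain ⟨s', hs', hss⟩ := h1
    have h2 : s * b = b * s' := by
      rw [← hss]
      simp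
    rw [← Module.End.mul_apply, ← map_mul, h2, map_mul, Module.End.mul_apply, hu s' hs']
  obtain ⟨b, hb, hb1⟩ := hne
  have hs1 := fun {b : G} (hb : b ∈ A') (hb1 : ρ b ≠ 1) =>
    num_step1 hp hK A' hexp hq hnK hnc hfpf hb hb1
  obtain ⟨hFb, hcardV⟩ := hs1 hb hb1
  obtain ⟨c, hc, hodd, hcn, hinv⟩ := num_bs hK (hexp b hb) (hnK b hb) (hnc b hb hb1)
  have h1 := half (ρ := ρ) hp (hexp b hb) hinv hodd U (hUA b hb) (hUK c hc)
    (by rw [hfpf c hc hodd hcn, bot_inf_eq])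
  rw [hFb] at h1
  refine ⟨U, hUtop, hUK, hcardV, ?_⟩
  have hex : ∃ v ∈ U, v ∉ Fx ρ (A' : Set G) := by
    by_contra hcon
    push Not at hcon
    have hle : U ≤ Fx ρ (A' : Set G) := hcon
    rw [inf_eq_right.mpr hle] at h1
    have hpos : 0 < Nat.card U := Nat.card_pos
    have h2 : Nat.card U = 1 := by nlinarith
    apply hUbot
    have := (Nat.card_eq_one_iff_unique.mp h2).1
    rw [eq_bot_iff]
    intro u hu
    have h3 : (⟨u, hu⟩ : U) = 0 := Subsingleton.elim _ _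
    exact congrArg Subtype.val h3
  obtain ⟨v, hv, hv'⟩ := hex
  have h2 := inj A' hq U hUA (fun b hb hb1 => (hs1 hb hb1).1) hv hv'
  calc Nat.card A' ^ 2 ≤ (Nat.card (Az ρ A') * Nat.card ↥(Fx ρ (A' : Set G) ⊓ U)) ^ 2 :=
        Nat.pow_le_pow_left h2 2
    _ = Nat.card (Az ρ A') ^ 2 * Nat.card U := by rw [mul_pow, h1]

end Cfsg.Agent.Lib.Helper12.PGV
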