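import Cfsg.Agent.Lib.Helper12.PGV.Defs
import Cfsg.Agent.Lib.Helper12.PGV.NUM
import Cfsg.Agent.Lib.Helper12.PGV.FOUR
import Cfsg.Agent.Lib.Helper12.PGV.KILLP
import Cfsg.Agent.Lib.Helper12.PGV.TINY
import Cfsg.Agent.Lib.Helper12.PGV.IDX
import Cfsg.Agent.Lib.Helper12.PGV.QS3

set_option autoImplicit false
set_option linter.unusedSectionVars false

namespace Cfsg.Agent.Lib.Helper12.PGV

variable {G V : Type*} [Group G] [Finite G] [AddCommGroup V] [Finite V] {p : ℕ} [Fact p.Prime]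
  [Module (ZMod p) V] {ρ : Representation (ZMod p) G V} {A K : Subgroup G}

/-- [ODDNUM] replacement of NUM when |K| is odd. -/
theorem oddnum (hp : p = 2) (hK : Cfsg.IsQuasisimple K) (nt : ∃ k ∈ K, ρ k ≠ 1)
    (hoddK : Odd (Nat.card K)) (A' : Subgroup G) (hexp : ∀ b ∈ A', b * b = 1)
    (hcomm : ∀ b ∈ A', ∀ b' ∈ A', b * b' = b' * b)
    (hq : ∀ b ∈ A', ∀ b' ∈ A', QQ ρ b b') (hnK : ∀ b ∈ A', cj K b = K)
    (hnc : ∀ b ∈ A', ρ b ≠ 1 → ¬ RC ρ K b)
    (hfpf : ∀ x ∈ K, Odd (orderOf x) → ¬ Cen K x → Fx ρ {x} = ⊥) (hne : ∃ b ∈ A', ρ b ≠ 1)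
    (hineq : Nat.card (Az ρ A') * Nat.card V ≤ 2 * Nat.card A' * Nat.card (Fx ρ (A' : Set G))) :
    False := by
  have hs1 := fun {b : G} (hb : b ∈ A') (hb1 : ρ b ≠ 1) =>
    num_step1 hp hK A' hexp hq hnK hnc hfpf hb hb1
  obtain ⟨b₀, hb₀, hb₀1⟩ := hne
  obtain ⟨hF0, hcardV⟩ := hs1 hb₀ hb₀1
  -- (2)
  have h2 : ∀ b ∈ A', ∀ b' ∈ A', ρ b ≠ 1 → ρ b' ≠ 1 → ρ (b * b') = 1 := by
    intro b hb b' hb' hb1 hb'1
    by_contra hbb1
    have hF := (hs1 hb hb1).1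
    have hF' := (hs1 hb' hb'1).1
    have hF'' := (hs1 (A'.mul_mem hb hb') hbb1).1
    have hinv := four (ρ := ρ) hoddK (hexp b hb) (hexp b' hb') (hcomm b hb b' hb') (hnK b hb)
      (hnK b' hb') (by rw [hF, hF']) (by rw [hF, hF''])
    have hfix := killp hK (hnK b hb) (hnc b hb hb1) hinv
    obtain ⟨x, hx, hxp, hxn⟩ := qs3 p hK
    have hxodd : Odd (orderOf x) := by
      rw [hp] at hxp
      exact Nat.Coprime.odd_of_right hxp
    have hbot : Fx ρ {b} = ⊥ := by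
      rw [eq_bot_iff, ← hfpf x hx hxodd hxn]
      intro u hu y hy
      rw [Set.mem_singleton_iff] at hy
      subst hy
      exact hfix y hx u hu
    have hc1 : Nat.card (Fx ρ (A' : Set G)) = 1 := by
      rw [← hF, hbot]
      simp
    rw [hc1, one_pow] at hcardV
    have := (Nat.card_eq_one_iff_unique.mp hcardV.symm).1
    apply hb1
    ext v
    exact Subsingleton.elim _ _
  -- (3)
  have h3 : Nat.card A' ≤ 2 * Nat.card (Az ρ A') := by
    apply idx2 A' (Az ρ A') inf_le_left (a := b₀)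
    intro c hc
    by_cases hc1 : ρ c = 1
    · left
      refine ⟨hc, ?_⟩
      intro w _
      rw [hc1]
      rfl
    · right
      refine ⟨A'.mul_mem hb₀ hc, ?_⟩
      intro w _
      rw [h2 b₀ hb₀ c hc hb₀1 hc1]
      rfl
  -- (4)
  apply tiny hp hK nt hoddK hfpf
  set z := Nat.card (Az ρ A')
  set s := Nat.card A'
  set P := Nat.card (Fx ρ (A' : Set G))
  set n := Nat.card V
  have hz : 0 < z := Nat.card_pos
  have hP : 0 < P := Nat.card_pos
  have h4 : z * n ≤ z * (4 * P) := by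
    calc z * n ≤ 2 * s * P := hineq
      _ ≤ 2 * (2 * z) * P := by gcongr
      _ = z * (4 * P) := by ring
  have h5 : n ≤ 4 * P := Nat.le_of_mul_le_mul_left h4 hz
  have h6 : P ≤ 4 := by
    rw [← hcardV, pow_two] at h5
    exact Nat.le_of_mul_le_mul_right h5 hP
  calc n = P ^ 2 := hcardV.symm
    _ ≤ 4 ^ 2 := Nat.pow_le_pow_left h6 2
    _ = 16 := by norm_num

end Cfsg.Agent.Lib.Helper12.PGV
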