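import Cfsg.Agent.Lib.Helper12.PGV.T1
import Cfsg.Agent.Lib.Helper12.PGV.T2
import Cfsg.Agent.Lib.Helper12.PGV.T3
import Cfsg.Agent.Lib.Helper12.PGV.T5
import Cfsg.Agent.Lib.Helper12.PGV.T6
import Cfsg.Agent.Lib.Helper12.PGV.T7
import Cfsg.Agent.Lib.Helper12.PGV.QS3
import Cfsg.Agent.Lib.Helper12.PGV.QSC
import Cfsg.Agent.Lib.Helper12.PGV.C1
import Cfsg.Agent.Lib.Helper12.PGV.C2
import Cfsg.Agent.Lib.Helper12.PGV.C3
import Cfsg.Agent.Lib.Helper12.PGV.C5
import Cfsg.Agent.Lib.Helper12.PGV.C6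
import Cfsg.Agent.Lib.Helper12.PGV.TIM
import Cfsg.Agent.Lib.Helper12.PGV.QQS
import Cfsg.Agent.Lib.Helper12.PGV.QQC
import Cfsg.Agent.Lib.Helper12.PGV.IDX
import Cfsg.Agent.Lib.Helper12.PGV.S1
import Cfsg.Agent.Lib.Helper12.PGV.S2
import Cfsg.Agent.Lib.Helper12.PGV.S3
import Cfsg.Agent.Lib.Helper12.PGV.AZN
import Cfsg.Agent.Lib.Helper12.PGV.POW
import Cfsg.Agent.Lib.Helper12.PGV.QODD
import Cfsg.Agent.Lib.Helper12.PGV.NORM
import Cfsg.Agent.Lib.Helper12.PGV.DCP
import Cfsg.Agent.Lib.Helper12.PGV.S6A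
import Cfsg.Agent.Lib.Helper12.PGV.S6B
import Cfsg.Agent.Lib.Helper12.PGV.S6C
import Cfsg.Agent.Lib.Helper12.PGV.DC2B
import Cfsg.Agent.Lib.Helper12.PGV.DC2C
import Cfsg.Agent.Lib.Helper12.PGV.SYM
import Cfsg.Agent.Lib.Helper12.PGV.CONJ
import Cfsg.Agent.Lib.Helper12.PGV.F2
import Cfsg.Agent.Lib.Helper12.PGV.L1A
import Cfsg.Agent.Lib.Helper12.PGV.L1B
import Cfsg.Agent.Lib.Helper12.PGV.L1C
import Cfsg.Agent.Lib.Helper12.PGV.R2A
import Cfsg.Agent.Lib.Helper12.PGV.R2B
import Cfsg.Agent.Lib.Helper12.PGV.TOP2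
import Cfsg.Agent.Lib.Helper12.PGV.BS
import Cfsg.Agent.Lib.Helper12.PGV.HALF
import Cfsg.Agent.Lib.Helper12.PGV.PEQ
import Cfsg.Agent.Lib.Helper12.PGV.INJ
import Cfsg.Agent.Lib.Helper12.PGV.SYL
import Cfsg.Agent.Lib.Helper12.PGV.SMALL
import Cfsg.Agent.Lib.Helper12.PGV.L5
import Cfsg.Agent.Lib.Helper12.PGV.NUM
import Cfsg.Agent.Lib.Helper12.PGV.FOUR
import Cfsg.Agent.Lib.Helper12.PGV.KILLP
import Cfsg.Agent.Lib.Helper12.PGV.TINY
import Cfsg.Agent.Lib.Helper12.PGV.ODDNUM
import Cfsg.Agent.Lib.Helper12.PGV.REDUCE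

set_option autoImplicit false
set_option linter.unusedSectionVars false

namespace Cfsg.Agent.Lib.Helper12.PGV

variable {G V : Type*} [Group G] [Finite G] [AddCommGroup V] [Finite V] {p : ℕ} [Fact p.Prime]
  [Module (ZMod p) V] {ρ : Representation (ZMod p) G V} {A K : Subgroup G}

theorem main_eq_top_of_card_le (U : Submodule (ZMod p) V) (h : Nat.card V ≤ Nat.card U) : U = ⊤ := by
  by_contra hne
  have hlt : (U : Set V) ⊂ Set.univ := by
    rw [Set.ssubset_univ_iff]
    intro hu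
    exact hne (SetLike.coe_injective (by simpa using hu))
  have h1 : Nat.card (U : Set V) < Nat.card (Set.univ : Set V) :=
    Set.Finite.card_lt_card (Set.toFinite _) hlt
  have h2 : Nat.card (Set.univ : Set V) = Nat.card V := Nat.card_univ
  have h3 : Nat.card (U : Set V) = Nat.card U := rfl
  omega

theorem main_card_Fx_le {X Y : Set G} (h : Fx ρ X ≤ Fx ρ Y) :
    Nat.card (Fx ρ X) ≤ Nat.card (Fx ρ Y) :=
  Nat.card_le_card_of_injective (Submodule.inclusion h) (Submodule.inclusion_injective h)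

theorem main_Fx_anti {X Y : Set G} (h : X ⊆ Y) : Fx ρ Y ≤ Fx ρ X :=
  fun _ hv x hx => hv x (h hx)

theorem main_QQ_of_mem_Ast {b a : G} (hb : b ∈ Ast ρ A) (ha : a ∈ A) : QQ ρ b a := by
  intro v
  exact hb.2 _ (Submodule.subset_span ⟨a, ha, v, rfl⟩)

theorem main_Fx_Az : Fx ρ (Az ρ A : Set G) = ⊤ := by
  rw [eq_top_iff]
  intro v _ x hx
  exact hx.2 v trivial

theorem main_rho_eq_one_iff {b : G} : ρ b = 1 ↔ b ∈ Fixer ρ ⊤ := by
  constructor
  · intro h w _; simp [h]
  · intro h; ext v; simpa using h v trivial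

theorem main_sq {a : G} (hp : p = 2) (h : a ^ p = 1) : a * a = 1 := by
  subst hp; simpa [pow_two] using h

theorem main_cj_mul (a c : G) : cj (cj K c) a = cj K (a * c) := by
  simp only [cj, Subgroup.map_map]
  congr 1
  ext x
  simp [mul_assoc]

theorem main_card_cj (a : G) : Nat.card (cj K a) = Nat.card K :=
  Subgroup.card_map_of_injective (MulAut.conj a).injective

/-- the arithmetic of case II -/
theorem main_arith1 {z n s P u : ℕ} (hz : 0 < z) (hn : 0 < n) (h1 : z * n ≤ s * P) (h2 : P ^ 2 = n)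
    (h3 : s ^ 2 ≤ z ^ 2 * u) : n ≤ u := by
  have h4 : (z * n) ^ 2 ≤ (s * P) ^ 2 := Nat.pow_le_pow_left h1 2
  have h5 : (s * P) ^ 2 = s ^ 2 * n := by rw [mul_pow, h2]
  have h6 : z ^ 2 * n * n ≤ z ^ 2 * n * u := by
    calc z ^ 2 * n * n = (z * n) ^ 2 := by ring
      _ ≤ s ^ 2 * n := by rw [← h5]; exact h4
      _ ≤ z ^ 2 * u * n := Nat.mul_le_mul_right n h3
      _ = z ^ 2 * n * u := by ring
  exact Nat.le_of_mul_le_mul_left h6 (by positivity)

theorem main_arith2 {z n s P u : ℕ} (hz : 0 < z) (hn : 0 < n) (h1 : z * n ≤ 2 * s * P)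
    (h2 : P ^ 2 = n) (h3 : s ^ 2 ≤ z ^ 2 * u) : n ≤ 4 * u := by
  have h4 : (z * n) ^ 2 ≤ (2 * s * P) ^ 2 := Nat.pow_le_pow_left h1 2
  have h5 : (2 * s * P) ^ 2 = 4 * s ^ 2 * n := by rw [mul_pow, h2]; ring
  have h6 : z ^ 2 * n * n ≤ z ^ 2 * n * (4 * u) := by
    calc z ^ 2 * n * n = (z * n) ^ 2 := by ring
      _ ≤ 4 * s ^ 2 * n := by rw [← h5]; exact h4
      _ ≤ 4 * (z ^ 2 * u) * n := by
          apply Nat.mul_le_mul_right n
          exact Nat.mul_le_mul_left 4 h3
      _ = z ^ 2 * n * (4 * u) := by ring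
  exact Nat.le_of_mul_le_mul_left h6 (by positivity)

theorem main (d : Dat ρ A K) : ∀ a ∈ A, cj K a = K := by
  by_contra hcon
  push Not at hcon
  obtain ⟨a₀, ha₀, hm₀⟩ := hcon
  have hAstA : Ast ρ A ≤ A := inf_le_left
  -- the basic inequality
  have hE : Nat.card (Az ρ A) * Nat.card V ≤
      Nat.card (Ast ρ A) * Nat.card (Fx ρ (Ast ρ A : Set G)) := by
    have h1 := d.bo (Az ρ A) inf_le_left le_rfl
    rw [main_Fx_Az] at h1
    have h2 := (tim A d.comm d.bo).1
    rw [h2]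
    have h3 : Nat.card (⊤ : Submodule (ZMod p) V) = Nat.card V :=
      Nat.card_congr (Submodule.topEquiv (R := ZMod p) (M := V)).toEquiv
    rwa [h3] at h1
  have hz : 0 < Nat.card (Az ρ A) := Nat.card_pos
  have hn : 0 < Nat.card V := Nat.card_pos
  have hquad : ∀ b ∈ Ast ρ A, ∀ b' ∈ Ast ρ A, QQ ρ b b' :=
    fun b hb b' hb' => main_QQ_of_mem_Ast hb (hAstA hb')
  -- normalising K₁ = a K a⁻¹
  have hnorm1 : ∀ a ∈ A, ∀ b ∈ A, cj K b = K → cj (cj K a) b = cj K a := by
    intro a ha b hb hbn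
    rw [main_cj_mul, d.comm b hb a ha, ← main_cj_mul, hbn]
  -- the `fpf` statement
  have hfpf : p = 2 → (∀ a ∈ A, cj K a ≠ K → Pair2 ρ K a) →
      ∀ x ∈ K, Odd (orderOf x) → ¬ Cen K x → Fx ρ {x} = ⊥ := by
    intro hp hall x hx ho hxn
    have htop := top2 hp d hall
    obtain ⟨h1, _, _⟩ := l1c hp (hall a₀ ha₀ hm₀) hx ho hxn
    have hco : (orderOf x).Coprime p := by
      rw [hp]; exact Nat.Coprime.symm (Nat.coprime_two_left.mpr ho)
    have h2 := (c2 (ρ := ρ) hco).2
    rw [h1, htop] at h2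
    simpa using h2
  by_cases hII : ∀ a ∈ Ast ρ A, cj K a = K
  · -- Case II
    obtain ⟨b, hbS, hb1⟩ := s3 d ha₀ hm₀
    have hbA : b ∈ A := hAstA hbS
    have hbn : cj K b = K := hII b hbS
    have hnc : ¬ RC ρ K b := fun h => hb1 (s2 d hbA h)
    have hcm₀ : CC K (cj K a₀) := (d.dich a₀ ha₀).resolve_left hm₀
    by_cases hp : p = 2
    · have hall : ∀ a ∈ A, cj K a ≠ K → Pair2 ρ K a := by
        intro a ha hm
        have ha2 := main_sq hp (d.exp a ha)
        have hcm : CC K (cj K a) := (d.dich a ha).resolve_left hm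
        exact ⟨d.qs, d.nt, ha2, hcm,
          dc2b d.qs ha2 hcm hbn (d.comm a ha b hbA) hnc (main_QQ_of_mem_Ast hbS ha)⟩
      have hAz : Az ρ (Ast ρ A) = Az ρ A := by
        apply le_antisymm
        · exact fun x hx => ⟨hAstA hx.1, hx.2⟩
        · exact fun x hx => ⟨⟨hx.1, fun w _ => hx.2 w trivial⟩, hx.2⟩
      by_cases hdvd : p ∣ Nat.card K
      · obtain ⟨U, hU, _, hP, hcard⟩ := num hp d.qs (cj K a₀) (qsc d.qs a₀) (ntc d.nt a₀)
          (by rw [main_card_cj]; exact hdvd) hcm₀ (Ast ρ A)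
          (fun c hc => main_sq hp (d.exp c (hAstA hc))) hquad hII
          (fun c hc => hnorm1 a₀ ha₀ c (hAstA hc) (hII c hc))
          (fun c hc hc1 h => hc1 (s2 d (hAstA hc) h)) (hfpf hp hall) ⟨b, hbS, hb1⟩
        rw [hAz] at hcard
        exact hU (main_eq_top_of_card_le U (main_arith1 hz hn hE hP hcard))
      · have hoddK : Odd (Nat.card K) := by
          rw [hp] at hdvd
          exact Nat.not_even_iff_odd.mp (fun h => hdvd h.two_dvd)
        refine oddnum hp d.qs d.nt hoddK (Ast ρ A)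
          (fun c hc => main_sq hp (d.exp c (hAstA hc)))
          (fun c hc c' hc' => d.comm c (hAstA hc) c' (hAstA hc')) hquad hII
          (fun c hc hc1 h => hc1 (s2 d (hAstA hc) h)) (hfpf hp hall) ⟨b, hbS, hb1⟩ ?_
        rw [hAz]
        calc Nat.card (Az ρ A) * Nat.card V
            ≤ Nat.card (Ast ρ A) * Nat.card (Fx ρ (Ast ρ A : Set G)) := hE
          _ ≤ 2 * Nat.card (Ast ρ A) * Nat.card (Fx ρ (Ast ρ A : Set G)) := by
              apply Nat.mul_le_mul_right
              omega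
    · have hcc := pow_cc d ha₀ hm₀
      have hap := d.exp a₀ ha₀
      have hq : QQ ρ b a₀ := main_QQ_of_mem_Ast hbS ha₀
      have hab := d.comm a₀ ha₀ b hbA
      have hdc := dcp d.qs hap hcc hbn hab hnc hq
      obtain ⟨x, hx, _, hxn⟩ := qs3 p d.qs
      have h6a := s6a hp d.qs hap hcc hdc hx hxn
      have h6b := s6b hp d.qs hap hcc hx hxn h6a
      exact s6c d.qs d.nt hcm₀ hbn hab hnc hq h6b
  · -- Case I
    push Not at hII
    obtain ⟨a, haS, hma⟩ := hII
    have ha : a ∈ A := hAstA haS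
    have hcm : CC K (cj K a) := (d.dich a ha).resolve_left hma
    by_cases hp : p = 2
    swap
    · exact qodd hp d.qs d.nt (d.exp a ha) (pow_cc d ha hma) (main_QQ_of_mem_Ast haS ha)
    have ha2 := main_sq hp (d.exp a ha)
    by_cases hr : ∃ c ∈ A, cj K c ≠ K ∧ cj K (a * c) ≠ K
    · obtain ⟨c, hc, hc1, hc2⟩ := hr
      have hac := d.comm a ha c hc
      have h1 : CC K (cj K c) := (d.dich c hc).resolve_left hc1
      have h2 : CC K (cj K (a * c)) := (d.dich (a * c) (A.mul_mem ha hc)).resolve_left hc2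
      have hqac : QQ ρ a c := main_QQ_of_mem_Ast haS hc
      have P : Pair2 ρ K a := ⟨d.qs, d.nt, ha2, hcm, dc2c d.qs ha2 hcm hac h1 h2 (qqs hac hqac)⟩
      exact r2b hp P (main_sq hp (d.exp c hc)) hac h1 h2 hqac (r2a P hac h1 h2)
    · push Not at hr
      set A' : Subgroup G := Ast ρ A ⊓ Subgroup.normalizer (K : Set G) with hA'
      have hA'S : A' ≤ Ast ρ A := inf_le_left
      have hA'n : ∀ b ∈ A', cj K b = K := fun b hb =>
        Subgroup.mem_normalizer_iff_map_conj_eq.mp hb.2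
      have hidx : Nat.card (Ast ρ A) ≤ 2 * Nat.card A' := by
        apply idx2 (Ast ρ A) A' hA'S (a := a)
        intro c hc
        by_cases hcK : cj K c = K
        · exact Or.inl ⟨hc, Subgroup.mem_normalizer_iff_map_conj_eq.mpr hcK⟩
        · exact Or.inr ⟨(Ast ρ A).mul_mem haS hc,
            Subgroup.mem_normalizer_iff_map_conj_eq.mpr (hr c (hAstA hc) hcK)⟩
      by_cases ht : ∀ b ∈ A', ρ b = 1
      · -- transvection
        have h1 : Nat.card A' ≤ Nat.card (Az ρ A) :=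
          Subgroup.card_le_of_le (fun x hx => ⟨hAstA (hA'S hx), main_rho_eq_one_iff.mp (ht x hx)⟩)
        have h2 : Nat.card (Fx ρ (Ast ρ A : Set G)) ≤ Nat.card (Fx ρ {a}) :=
          main_card_Fx_le (main_Fx_anti (by simpa using haS))
        have h3 : Nat.card (Az ρ A) * Nat.card V ≤
            Nat.card (Az ρ A) * (2 * Nat.card (Fx ρ {a})) := by
          calc Nat.card (Az ρ A) * Nat.card V
              ≤ Nat.card (Ast ρ A) * Nat.card (Fx ρ (Ast ρ A : Set G)) := hE
            _ ≤ (2 * Nat.card (Az ρ A)) * Nat.card (Fx ρ {a}) :=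
                Nat.mul_le_mul (hidx.trans (Nat.mul_le_mul_left 2 h1)) h2
            _ = Nat.card (Az ρ A) * (2 * Nat.card (Fx ρ {a})) := by ring
        exact transv hp d.qs d.nt ha2 hcm (Nat.le_of_mul_le_mul_left h3 hz)
      · push Not at ht
        obtain ⟨b, hbA', hb1⟩ := ht
        have hbS : b ∈ Ast ρ A := hA'S hbA'
        have hbA : b ∈ A := hAstA hbS
        have hbn : cj K b = K := hA'n b hbA'
        have hnc : ¬ RC ρ K b := fun h => hb1 (s2 d hbA h)
        have hall : ∀ a ∈ A, cj K a ≠ K → Pair2 ρ K a := by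
          intro a ha hm
          have ha2 := main_sq hp (d.exp a ha)
          have hcm : CC K (cj K a) := (d.dich a ha).resolve_left hm
          exact ⟨d.qs, d.nt, ha2, hcm,
            dc2b d.qs ha2 hcm hbn (d.comm a ha b hbA) hnc (main_QQ_of_mem_Ast hbS ha)⟩
        have hAz : Az ρ A' = Az ρ A := by
          apply le_antisymm
          · exact fun x hx => ⟨hAstA (hA'S hx.1), hx.2⟩
          · intro x hx
            refine ⟨⟨⟨hx.1, fun w _ => hx.2 w trivial⟩, ?_⟩, hx.2⟩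
            exact Subgroup.mem_normalizer_iff_map_conj_eq.mpr
              (azn d hx.1 (main_rho_eq_one_iff.mpr hx.2))
        have h2 : Nat.card (Fx ρ (Ast ρ A : Set G)) ≤ Nat.card (Fx ρ (A' : Set G)) :=
          main_card_Fx_le (main_Fx_anti (fun x hx => hA'S hx))
        have h3 : Nat.card (Az ρ A) * Nat.card V ≤
            2 * Nat.card A' * Nat.card (Fx ρ (A' : Set G)) :=
          hE.trans (Nat.mul_le_mul hidx h2)
        by_cases hdvd : p ∣ Nat.card K
        · obtain ⟨U, hU, hUK, hP, hcard⟩ := num hp d.qs (cj K a) (qsc d.qs a) (ntc d.nt a)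
            (by rw [main_card_cj]; exact hdvd) hcm A'
            (fun c hc => main_sq hp (d.exp c (hAstA (hA'S hc))))
            (fun c hc c' hc' => hquad c (hA'S hc) c' (hA'S hc')) hA'n
            (fun c hc => hnorm1 a ha c (hAstA (hA'S hc)) (hA'n c hc))
            (fun c hc hc1 h => hc1 (s2 d (hAstA (hA'S hc)) h)) (hfpf hp hall) ⟨b, hbA', hb1⟩
          rw [hAz] at hcard
          have h4 := main_arith2 hz hn h3 hP hcard
          have h5 := small d.qs U hUK h4
          have htop := top2 hp d hall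
          apply hU
          rw [eq_top_iff, ← htop]
          apply Submodule.span_le.mpr
          rintro w ⟨k, hk, v, rfl⟩
          exact h5 k hk v
        · have hoddK : Odd (Nat.card K) := by
            rw [hp] at hdvd
            exact Nat.not_even_iff_odd.mp (fun h => hdvd h.two_dvd)
          refine oddnum hp d.qs d.nt hoddK A'
            (fun c hc => main_sq hp (d.exp c (hAstA (hA'S hc))))
            (fun c hc c' hc' => d.comm c (hAstA (hA'S hc)) c' (hAstA (hA'S hc')))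
            (fun c hc c' hc' => hquad c (hA'S hc) c' (hA'S hc')) hA'n
            (fun c hc hc1 h => hc1 (s2 d (hAstA (hA'S hc)) h)) (hfpf hp hall) ⟨b, hbA', hb1⟩ ?_
          rw [hAz]
          exact h3

end Cfsg.Agent.Lib.Helper12.PGV
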